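import Groth.Agent.CycDim.RelDim
import Groth.Agent.CycDim.FibreAff
import Groth.Agent.CycDim.Lim
import Groth.Agent.CycDim.PullDiv
import Groth.Agent.LocalDimBC.Scheme
import Groth.Agent.GrpAct.DimClosed
import Groth.Agent.Rosenlicht.Product
import Groth.Agent.Rigid.FibreTranslate
import Groth.Agent.PicProper.Normal
import Mathlib

/-!
Products of varieties over an algebraically closed field: normality, the fibres of the projections, and the
shift of dimension functions along the projections.
-/

set_option autoImplicit false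
set_option linter.style.haveILetI false

universe u

open CategoryTheory CategoryTheory.Limits AlgebraicGeometry
open Groth.Agent.EquidimPt (IsFibMax)

set_option backward.isDefEq.respectTransparency false

namespace Groth.Agent.ClProd

/-- The fibre multiplicity of a flat pullback. -/
noncomputable abbrev fibMult {P X : Scheme.{u}} (q : P ⟶ X) (w : P) : ℤ :=
  ((Module.length (P.presheaf.stalk w) (P.presheaf.stalk w ⧸ Ideal.map (q.stalkMap w).hom
    (IsLocalRing.maximalIdeal (X.presheaf.stalk (q w))))).toNat : ℤ)

/-- Fibres of a geometrically integral morphism have one maximal point, of multiplicity one. -/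
theorem fibre_generic {P X : Scheme.{u}} (q : P ⟶ X) [GeometricallyIntegral q] (z : X) :
    ∃ γ : P, q γ = z ∧ IsFibMax q γ ∧ fibMult q γ = 1 ∧ ∀ w : P, q w = z → IsFibMax q w → w = γ := by
  haveI : IsIntegral (q.fiber z) := inferInstance
  let g := genericPoint ↥(q.fiber z)
  let ι : q.fiber z ⟶ P := q.fiberι z
  haveI : IsPreimmersion ι := inferInstanceAs (IsPreimmersion (q.fiberι z))
  have hι : ∀ v, q (ι v) = z := fun v => show ι v ∈ q ⁻¹' {z} from q.range_fiberι z ▸ ⟨v, rfl⟩
  have key : ∀ w : P, q w = z → IsFibMax q w → w = ι g := by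
    intro w hw hmax
    obtain ⟨v, rfl⟩ : w ∈ Set.range ι := by
      show w ∈ Set.range (q.fiberι z)
      rw [q.range_fiberι]
      exact hw
    exact (hmax (ι g) (by rw [hι, hι]) ((genericPoint_specializes v).map ι.continuous)).symm
  refine ⟨ι g, hι g, fun w hw hsp => ?_, ?_, key⟩
  · obtain ⟨v, rfl⟩ : w ∈ Set.range ι := by
      show w ∈ Set.range (q.fiberι z)
      rw [q.range_fiberι]
      exact hw.trans (hι g)
    have h1 : v ⤳ g := ι.isEmbedding.isInducing.specializes_iff.1 hsp
    rw [(h1.antisymm (genericPoint_specializes v)).eq]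
  · obtain ⟨e1⟩ := CMFlat.nonempty_stalk_equiv_asFiber q (ι g) g rfl
    obtain ⟨e2⟩ := CMFlat.nonempty_fiberStalk_equiv q (ι g)
    let I : Ideal (P.presheaf.stalk (ι g)) :=
      Ideal.map (q.stalkMap (ι g)).hom (IsLocalRing.maximalIdeal (X.presheaf.stalk (q (ι g))))
    show ((Module.length (P.presheaf.stalk (ι g)) (P.presheaf.stalk (ι g) ⧸ I)).toNat : ℤ) = 1
    rw [Module.length_eq_of_surjective (R := P.presheaf.stalk (ι g) ⧸ I) (M := P.presheaf.stalk (ι g) ⧸ I)
      (S := P.presheaf.stalk (ι g)) (Ideal.Quotient.mk_surjective (I := I)),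
      CycDim.length_congr (e2.trans e1.symm)]
    have : Module.length ((q.fiber z).presheaf.stalk g) ((q.fiber z).presheaf.stalk g) = 1 :=
      Module.length_eq_one (R := (q.fiber z).functionField) (M := (q.fiber z).functionField)
    rw [this]
    rfl

section field

variable {k : Type u} [Field k] [IsAlgClosed k]

/-- Integral schemes of finite type over an algebraically closed field are geometrically integral. -/
theorem geometricallyIntegral (X : Over (Spec (CommRingCat.of k))) [IsIntegral X.left] [LocallyOfFiniteType X.hom] :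
    GeometricallyIntegral X.hom := by
  haveI := Rosenlicht.geometricallyIrreducible X
  haveI := Rigid.geometricallyReduced_of_perfect X.hom
  exact GeometricallyIntegral.of_geometricallyReduced_of_geometricallyIrreducible _

/-- A product of normal varieties over an algebraically closed field is normal. -/
theorem isNormal_prod {X Y : Scheme.{u}} (f : X ⟶ Spec (CommRingCat.of k)) (g : Y ⟶ Spec (CommRingCat.of k))
    (hX : Pi1.IsNormalScheme X) (hY : Pi1.IsNormalScheme Y) : Pi1.IsNormalScheme (pullback f g) := by
  letI : X.Over (Spec (CommRingCat.of k)) := ⟨f⟩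
  letI : Y.Over (Spec (CommRingCat.of k)) := ⟨g⟩
  refine PicProper.isNormalScheme_prod k X Y (fun K _ _ hfin => ?_) hY
  haveI := hfin
  haveI : Algebra.IsIntegral k K := Algebra.IsIntegral.of_finite k K
  have hb : Function.Bijective (algebraMap k K) :=
    IsAlgClosed.algebraMap_bijective_of_isIntegral
  let φ := Spec.map (CommRingCat.ofHom (algebraMap k K))
  haveI : IsIso (CommRingCat.ofHom (algebraMap k K)) := (ConcreteCategory.isIso_iff_bijective _).2 hb
  haveI : IsIso φ := inferInstanceAs (IsIso (Spec.map (CommRingCat.ofHom (algebraMap k K))))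
  intro v
  haveI : IsIso (pullback.fst f φ) := inferInstance
  obtain ⟨h1, h2⟩ := hX (pullback.fst f φ v)
  let E := (asIso ((pullback.fst f φ).stalkMap v)).commRingCatIsoToRingEquiv
  exact ⟨E.symm.toMulEquiv.isDomain _, IsIntegrallyClosed.of_equiv E⟩

omit [IsAlgClosed k] in
/-- The first projection of a product with an integral scheme has relative dimension a natural number. -/
theorem exists_hasRelDim {P X Y : Scheme.{u}} {f : X ⟶ Spec (CommRingCat.of k)} {g : Y ⟶ Spec (CommRingCat.of k)}
    [IsIntegral Y] [LocallyOfFiniteType g] {a : P ⟶ X} {b : P ⟶ Y} (sq : IsPullback a b f g) :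
    ∃ r : ℕ, Cyc.HasRelDim a r := by
  haveI : LocallyOfFiniteType a := MorphismProperty.of_isPullback sq.flip ‹LocallyOfFiniteType g›
  let d := topologicalKrullDim Y
  have hd : ∀ y : Y, FlatMor.fibreDimAt g y = d := fun y => by
    rw [CMChart.fibreDimAt_eq_localDim g y, GrpAct.localDim_eq_of_irreducible g y]
  obtain ⟨r, hr⟩ : ∃ r : ℕ, d = r := by
    obtain ⟨b, δ, -, hbδ, -⟩ := DimFormula.exists_fibre_dims g (genericPoint Y)
    exact ⟨b + δ, (hd _).symm.trans hbδ⟩
  refine ⟨r, LocalDimBC.hasRelDim_of_fibreDimAt a r fun x => ?_⟩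
  rw [LocalDimBC.fibreDimAt_of_isPullback g f b a sq.flip x, hd, hr]

end field

/-- The shift of the dimension function along a geometrically integral flat projection of integral schemes. -/
theorem shift {P X : Scheme.{u}} [IsIntegral P] [IsIntegral X] [IsLocallyNoetherian X] (q : P ⟶ X) [Flat q]
    [LocallyOfFiniteType q] [GeometricallyIntegral q] {r : ℕ} (hr : Cyc.HasRelDim q r) {δP : P → ℤ} {δX : X → ℤ}
    (hd : Cyc.DeltaCompat q δP δX) :
    q (genericPoint P) = genericPoint X ∧ (r : ℤ) = δP (genericPoint P) - δX (genericPoint X) ∧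
      (∀ w, δP w ≤ δX (q w) + r ∧ (δP w = δX (q w) + r ↔ IsFibMax q w)) := by
  have h1 : q (genericPoint P) = genericPoint X := by
    obtain ⟨w, hw⟩ := q.surjective (genericPoint X)
    exact ((hw ▸ (genericPoint_specializes w).map q.continuous).antisymm (genericPoint_specializes _)).eq
  have h2 := CycDim.delta_le q hd hr
  refine ⟨h1, ?_, h2⟩
  have h3 := (h2 (genericPoint P)).2.2 fun w _ hw => (hw.antisymm (genericPoint_specializes w)).eq
  rw [h1] at h3
  omega

end Groth.Agent.ClProd
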