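import Groth.Agent.ClProd.Basic
import Groth.Agent.CycDim.AffineSurj
import Groth.Agent.CycDim.AffineCH
import Groth.Agent.CycDim.DegBase
import Groth.Agent.CycDim.PushVanish
import Groth.Agent.CycPB.HomInv
import Groth.Agent.CycPB.TrivDiv
import Mathlib

/-!
A codimension one cycle on a product with a variety containing an open subset of affine space is rationally
equivalent to a sum of pullbacks from the factors.
-/

set_option autoImplicit false
set_option linter.style.haveILetI false
set_option backward.isDefEq.respectTransparency false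

universe u

open CategoryTheory CategoryTheory.Limits AlgebraicGeometry TopologicalSpace
open Groth.Agent.EquidimPt (IsFibMax)

noncomputable section

namespace Groth.Agent.ClProd

/-- A cycle with the coefficients of a finitely supported function. -/
def finCycle {X : Scheme.{u}} (F : X → ℤ) (h : (Function.support F).Finite) : AlgebraicCycle X ℤ :=
  CycLim.mkCycle F fun _ => h.subset fun _ hx => hx.2

@[simp] theorem finCycle_apply {X : Scheme.{u}} (F : X → ℤ) (h : (Function.support F).Finite) (x : X) :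
    finCycle F h x = F x := rfl

theorem finite_cycle {X : Scheme.{u}} [CompactSpace X] (α : AlgebraicCycle X ℤ) : (Function.support α).Finite :=
  (CycAff.finite_on α isCompact_univ).subset fun _ hx => ⟨trivial, hx⟩

/-- The hypotheses on a projection of a product. -/
structure ProjData {P X : Scheme.{u}} (q : P ⟶ X) (δP : P → ℤ) (δX : X → ℤ) (c : ℤ) : Prop where
  gen : ∀ z : X, ∃ γ : P, q γ = z ∧ IsFibMax q γ ∧ fibMult q γ = 1 ∧ ∀ w : P, q w = z → IsFibMax q w → w = γ
  le : ∀ w, δP w ≤ δX (q w) + c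
  iff : ∀ w, δP w = δX (q w) + c ↔ IsFibMax q w

theorem ProjData.exists_pt {P X : Scheme.{u}} {q : P ⟶ X} {δP : P → ℤ} {δX : X → ℤ} {c : ℤ}
    (h : ProjData q δP δX c) :
    ∃ g : X → P, (∀ z, q (g z) = z) ∧ ∀ (α : X → ℤ) (w : P),
      (δP w = δX (q w) + c → w = g (q w) ∧ Cyc.pullFun q δP δX c α w = α (q w)) ∧
      (δP w ≠ δX (q w) + c → w ≠ g (q w) ∧ Cyc.pullFun q δP δX c α w = 0) := by
  choose g hg hmax hlen huniq using h.gen
  refine ⟨g, hg, fun α w => ⟨fun hd => ?_, fun hd => ⟨fun e => hd ?_, if_neg hd⟩⟩⟩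
  · have e : w = g (q w) := huniq _ w rfl ((h.iff w).1 hd)
    have he : fibMult q w = 1 := (congrArg (fibMult q) e).trans (hlen _)
    refine ⟨e, ?_⟩
    rw [Cyc.pullFun, if_pos hd]
    exact (congrArg (α (q w) * ·) he).trans (mul_one _)
  · exact (h.iff w).2 (e.symm ▸ hmax (q w))

theorem ProjData.finite_pull {P X : Scheme.{u}} {q : P ⟶ X} {δP : P → ℤ} {δX : X → ℤ} {c : ℤ}
    (h : ProjData q δP δX c) {α : X → ℤ} (hα : (Function.support α).Finite) :
    (Function.support (Cyc.pullFun q δP δX c α)).Finite := by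
  obtain ⟨g, -, hg⟩ := h.exists_pt
  refine (hα.image g).subset fun w hw => ?_
  by_cases hd : δP w = δX (q w) + c
  · obtain ⟨e, he⟩ := (hg α w).1 hd
    exact ⟨q w, fun h0 => hw (he.trans h0), e.symm⟩
  · exact absurd ((hg α w).2 hd).2 hw

/-- A cycle of the expected dimension supported over a proper closed subset is a pullback. -/
theorem exists_pull_of_supported {P X : Scheme.{u}} [IsIntegral X] [CompactSpace P] {q : P ⟶ X} {δP : P → ℤ}
    {δX : X → ℤ} (hX : Cyc.IsDimFun X δX) {c : ℤ} (h : ProjData q δP δX c) {U : X.Opens} (hU : (U : Set X).Nonempty)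
    {R : P → ℤ} (hR : (Function.support R).Finite) (hd : ∀ w, δP w ≠ δX (genericPoint X) + c - 1 → R w = 0)
    (hsupp : ∀ w, q w ∈ U → R w = 0) :
    ∃ α : AlgebraicCycle X ℤ, α ∈ Cyc.Zk X δX (δX (genericPoint X) - 1) ∧
      ∀ w, R w = Cyc.pullFun q δP δX c α w := by
  obtain ⟨g, hqg, hg⟩ := h.exists_pt
  classical
  let F : X → ℤ := fun z => if δX z = δX (genericPoint X) - 1 then R (g z) else 0
  have hF : (Function.support F).Finite := (hR.image q).subset fun z hz => by
    refine ⟨g z, fun h0 => hz ?_, hqg z⟩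
    show (if _ then R (g z) else 0) = 0
    rw [h0, ite_self]
  refine ⟨finCycle F hF, fun z hz => if_neg hz, fun w => ?_⟩
  by_cases hw : δP w = δX (q w) + c
  · obtain ⟨e, he⟩ := (hg (finCycle F hF) w).1 hw
    rw [he]
    show _ = if _ then R (g (q w)) else 0
    by_cases hz : δX (q w) = δX (genericPoint X) - 1
    · rw [if_pos hz, ← e]
    · rw [if_neg hz]
      exact hd w (by omega)
  · rw [((hg _ w).2 hw).2]
    by_contra hne
    have h1 : q w ∉ U := fun h' => hne (hsupp w h')
    have h2 : δP w = δX (genericPoint X) + c - 1 := by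
      by_contra h'
      exact hne (hd w h')
    have h3 : genericPoint X ≠ q w := fun e => h1 (e ▸ ((genericPoint_spec X).mem_open_set_iff U.2).2 (by simpa using hU))
    have h4 := (hX _ _ (genericPoint_specializes (q w)) h3).1
    have h5 := h.le w
    omega

/-- Divisors of rational functions on an open of two schemes. -/
theorem transfer {W A P : Scheme.{u}} (i : W ⟶ P) [IsOpenImmersion i] (j : W ⟶ A) [IsOpenImmersion j]
    [CompactSpace A] {δA : A → ℤ} {δP : P → ℤ} (hd : ∀ u, δA (j u) = δP (i u)) {k : ℤ} {α : AlgebraicCycle A ℤ}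
    (h : Cyc.RatEquivZero δA k α) :
    ∃ (ι : Type u) (_ : Fintype ι) (ξ : ι → P) (f : (l : ι) → P.residueField (ξ l)),
      (∀ l, δP (ξ l) = k + 1) ∧ (∀ l, f l ≠ 0) ∧ ∀ u, ∑ l, Cyc.divFun δP (ξ l) (f l) (i u) = α (j u) := by
  classical
  obtain ⟨ι, ξ, f, hξ, hf, hloc, hsum⟩ := h
  choose U hU hxU hfin using hloc
  obtain ⟨t, ht⟩ := isCompact_univ.elim_finite_subcover U hU fun v _ => Set.mem_iUnion.2 ⟨v, hxU v⟩
  haveI : Finite ι := Set.finite_univ_iff.1 ((t.finite_toSet.biUnion fun v _ => hfin v).subset fun l _ => by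
    obtain ⟨v, hv, hlv⟩ := Set.mem_iUnion₂.1 (ht (Set.mem_univ (ξ l)))
    exact Set.mem_biUnion hv ⟨ξ l, subset_closure rfl, hlv⟩)
  letI := Fintype.ofFinite ι
  let J := {l : ι // ξ l ∈ Set.range j}
  have hex : ∀ l : J, ∃ (v : W) (f' : P.residueField (i v)), j v = ξ l.1 ∧ δP (i v) = k + 1 ∧ f' ≠ 0 ∧
      ∀ u, Cyc.divFun δP (i v) f' (i u) = Cyc.divFun δA (ξ l.1) (f l.1) (j u) := by
    rintro ⟨l, v, hv⟩
    have key : ∀ (p : A) (hp : j v = p) (g : A.residueField p), g ≠ 0 → ∃ f' : P.residueField (i v), f' ≠ 0 ∧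
        ∀ u, Cyc.divFun δP (i v) f' (i u) = Cyc.divFun δA p g (j u) := by
      rintro p rfl g hg
      obtain ⟨f', hf'⟩ := CycPush.residueFieldMap_surjective_pre i v ((j.residueFieldMap v).hom g)
      refine ⟨f', fun h0 => hg ?_, fun u => ?_⟩
      · rw [h0, map_zero] at hf'
        exact (map_eq_zero (j.residueFieldMap v).hom).1 hf'.symm
      · rw [CycLine.divFun_pre i (fun w => δP (i w)) δP 0 (fun z => (add_zero _).symm) v f' u, hf',
          CycLine.divFun_pre j (fun w => δP (i w)) δA 0 (fun z => (hd z).trans (add_zero _).symm) v g u]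
    obtain ⟨f', h1, h2⟩ := key (ξ l) hv (f l) (hf l)
    exact ⟨v, f', hv, by rw [← hd, hv, hξ], h1, h2⟩
  choose v f' hv hdv hf' hdiv using hex
  refine ⟨J, inferInstance, fun l => i (v l), f', hdv, hf', fun u => ?_⟩
  rw [hsum, finsum_eq_sum_of_fintype, Finset.sum_congr rfl fun l _ => hdiv l u]
  rw [← Finset.sum_subtype (Finset.univ.filter fun l => ξ l ∈ Set.range j) (by simp)
    (fun l => Cyc.divFun δA (ξ l) (f l) (j u))]
  refine Finset.sum_subset (Finset.subset_univ _) fun l _ hl => ?_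
  rw [Cyc.divFun, dif_neg]
  exact fun h' => hl (Finset.mem_filter.2 ⟨Finset.mem_univ _,
    h'.1.mem_open j.isOpenEmbedding.isOpen_range ⟨u, rfl⟩⟩)

/-- Surjectivity. -/
theorem surj {P X Y W A : Scheme.{u}} [IsIntegral P] [IsIntegral X] [IsIntegral Y] [IsLocallyNoetherian P]
    [CompactSpace P] [CompactSpace A] (a : P ⟶ X) (b : P ⟶ Y) {δP : P → ℤ} {δX : X → ℤ} {δY : Y → ℤ}
    (hsP : Cyc.IsSetup P δP) (hsX : Cyc.IsSetup X δX) (hsY : Cyc.IsSetup Y δY)
    (ha : ProjData a δP δX (δP (genericPoint P) - δX (genericPoint X)))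
    (hb : ProjData b δP δY (δP (genericPoint P) - δY (genericPoint Y)))
    (hbη : b (genericPoint P) = genericPoint Y) (hcb : Cyc.DeltaCompat b δP δY)
    {U : X.Opens} (hU : (U : Set X).Nonempty) (i : W ⟶ P) [IsOpenImmersion i]
    (hi : Set.range i = a ⁻¹' (U : Set X)) (j : W ⟶ A) [IsOpenImmersion j] (π : A ⟶ Y) {n : ℕ}
    (hπ : CycAff.LocAff π n) (hw : j ≫ π = i ≫ b) (haη : a (genericPoint P) = genericPoint X)
    (γ : AlgebraicCycle P ℤ) (hγ : γ ∈ Cyc.Zk P δP (δP (genericPoint P) - 1)) :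
    ∃ α ∈ Cyc.Zk X δX (δX (genericPoint X) - 1), ∃ β ∈ Cyc.Zk Y δY (δY (genericPoint Y) - 1),
      ∃ γ' : AlgebraicCycle P ℤ,
        (∀ w, γ' w = Cyc.pullFun a δP δX (δP (genericPoint P) - δX (genericPoint X)) α w +
          Cyc.pullFun b δP δY (δP (genericPoint P) - δY (genericPoint Y)) β w) ∧
        Cyc.RatEquiv δP (δP (genericPoint P) - 1) γ γ' := by
  classical
  haveI := hsY.1
  haveI := CycPB.lft_of_locAff hπ
  obtain ⟨δA, hsA, hcA⟩ := CycPB.exists_isSetup hsY π
  haveI := hsA.1
  have hW : Cyc.DeltaCompat (j ≫ π) (fun u => δP (i u)) δY := by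
    rw [hw]
    exact Bivar.deltaCompat_comp i b _ δP δY (CycPush.deltaCompat_preimmersion i δP) hcb
  have hW' : Cyc.DeltaCompat (i ≫ b) (fun u => δP (i u)) δY :=
    Bivar.deltaCompat_comp i b _ δP δY (CycPush.deltaCompat_preimmersion i δP) hcb
  have hd : ∀ u, δA (j u) = δP (i u) := fun u => (CycPB.pullFun_open j π hcA hW 0 (fun _ => (0 : ℤ)) u).1.symm
  -- the generic point
  obtain ⟨u₀, hu₀⟩ : genericPoint P ∈ Set.range i := by
    rw [hi]
    show a (genericPoint P) ∈ (U : Set X)
    rw [haη]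
    exact ((genericPoint_spec X).mem_open_set_iff U.2).2 (by simpa using hU)
  have hn : δP (genericPoint P) - δY (genericPoint Y) = n := by
    have hmax : IsFibMax π (j u₀) := fun v _ hv => by
      obtain ⟨v', rfl⟩ := hv.mem_open j.isOpenEmbedding.isOpen_range ⟨u₀, rfl⟩
      have h1 : i v' ⤳ i u₀ := (j.isEmbedding.isInducing.specializes_iff.1 hv).map i.continuous
      rw [hu₀] at h1
      have h2 : i v' = i u₀ := ((h1.antisymm (genericPoint_specializes _)).eq).trans hu₀.symm
      rw [i.isOpenEmbedding.injective h2]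
    have h3 := ((CycDim.delta_le π hcA (CycPB.hasRelDim_of_locAff hπ) (j u₀)).2).2 hmax
    have h4 : π (j u₀) = genericPoint Y := by
      rw [← Scheme.Hom.comp_apply, hw, Scheme.Hom.comp_apply, hu₀, hbη]
    rw [hd, hu₀, h4] at h3
    omega
  -- the closure in the affine bundle
  let FA : A → ℤ := Function.extend j (fun u => γ (i u)) 0
  have hFA : ∀ u, FA (j u) = γ (i u) := fun u => j.isOpenEmbedding.injective.extend_apply _ _ u
  have hsuppA : ∀ x, FA x ≠ 0 → ∃ u, j u = x ∧ γ (i u) ≠ 0 := by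
    intro x hx
    by_cases hr : ∃ u, j u = x
    · obtain ⟨u, rfl⟩ := hr
      exact ⟨u, rfl, by rwa [hFA] at hx⟩
    · exact absurd (Function.extend_apply' _ _ _ hr) hx
  have hfA : (Function.support FA).Finite := by
    refine (((finite_cycle γ).preimage i.isOpenEmbedding.injective.injOn).image j).subset fun x hx => ?_
    obtain ⟨u, rfl, hu⟩ := hsuppA x hx
    exact ⟨u, hu, rfl⟩
  have hzA : finCycle FA hfA ∈ Cyc.Zk A δA ((δY (genericPoint Y) - 1) + (n : ℕ)) := fun x hx => by
    by_contra hne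
    obtain ⟨u, rfl, hu⟩ := hsuppA x hne
    refine hu (hγ _ ?_)
    rw [← hd]
    omega
  obtain ⟨β, β', hβ, hβ', hrat⟩ := CycAff.exists_pull π hπ hsA.2.2 hsY.2.2 hcA _ (finCycle FA hfA) hzA
  obtain ⟨ι, _, ξ, f, hξ, hf, hdiv⟩ := transfer i j hd hrat
  haveI : CompactSpace Y := by
    haveI : Surjective π := ⟨fun y => by
      obtain ⟨p, hp, -⟩ := CycAff.fibre_data π n hπ hcA y
      exact ⟨p, hp⟩⟩
    exact π.surjective.compactSpace π.continuous
  let k := δP (genericPoint P) - 1
  let pb := Cyc.pullFun b δP δY (δP (genericPoint P) - δY (genericPoint Y)) β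
  let R : P → ℤ := fun w => γ w - pb w - ∑ l, Cyc.divFun δP (ξ l) (f l) w
  have hRW : ∀ u, R (i u) = 0 := fun u => by
    have h1 := hdiv u
    have h2 : pb (i u) = β' (j u) := by
      rw [hβ']
      show Cyc.pullFun b δP δY _ β (i u) = _
      rw [hn, ← (CycPB.pullFun_open j π hcA hW n β u).2, ← (CycPB.pullFun_open i b hcb hW' n β u).2]
      simp only [hw]
    have h3 : (finCycle FA hfA - β' : AlgebraicCycle A ℤ) (j u) = γ (i u) - β' (j u) := by
      show FA (j u) - β' (j u) = _
      rw [hFA]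
    show γ (i u) - pb (i u) - _ = 0
    rw [h1, h3, h2]
    ring
  have hRd : ∀ w, δP w ≠ k → R w = 0 := fun w hw' => by
    show γ w - pb w - _ = 0
    have h1 : pb w = 0 := by
      show Cyc.pullFun b δP δY _ β w = 0
      unfold Cyc.pullFun
      split
      · rw [hβ (b w) (by omega), zero_mul]
      · rfl
    have h2 : ∑ l, Cyc.divFun δP (ξ l) (f l) w = 0 := by
      refine Finset.sum_eq_zero fun l _ => ?_
      refine dif_neg ?_
      rintro ⟨-, h'⟩
      have := hξ l
      omega
    rw [hγ w hw', h1, h2]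
    simp
  have hRfin : (Function.support R).Finite := by
    refine (((finite_cycle γ).union (hb.finite_pull (finite_cycle β))).union
      (Set.finite_iUnion fun l => CycDeg.finite_support_divFun hsP.2.2 (ξ l) (hf l))).subset fun w hw' => ?_
    by_contra hnot
    simp only [Set.mem_union, Set.mem_iUnion, Function.mem_support, not_or, not_exists, not_not] at hnot
    refine hw' ?_
    show γ w - pb w - _ = 0
    rw [hnot.1.1, show pb w = 0 from hnot.1.2, Finset.sum_eq_zero fun l _ => hnot.2 l]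
    ring
  obtain ⟨α, hα, hRα⟩ := exists_pull_of_supported hsX.2.2 ha hU hRfin
    (fun w hw' => hRd w (by omega)) (fun w hw' => by
      obtain ⟨u, rfl⟩ : w ∈ Set.range i := by rw [hi]; exact hw'
      exact hRW u)
  have hfin' : (Function.support fun w => Cyc.pullFun a δP δX (δP (genericPoint P) - δX (genericPoint X)) α w +
      pb w).Finite := by
    refine (hRfin.union (hb.finite_pull (finite_cycle β))).subset fun w hw' => ?_
    by_contra hnot
    simp only [Set.mem_union, Function.mem_support, not_or, not_not] at hnot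
    refine hw' ?_
    show _ + pb w = 0
    rw [← hRα, hnot.1, show pb w = 0 from hnot.2, add_zero]
  refine ⟨α, hα, β, hβ, finCycle _ hfin', fun w => rfl, ι, ξ, f, fun l => ?_, hf,
    fun x => ⟨Set.univ, isOpen_univ, trivial, Set.toFinite _⟩, fun w => ?_⟩
  · rw [hξ l]
    omega
  · rw [finsum_eq_sum_of_fintype]
    show γ w - (_ + pb w) = _
    rw [← hRα]
    show γ w - (γ w - pb w - _ + pb w) = _
    ring

end Groth.Agent.ClProd
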