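import Groth.Agent.ClProd.Slice
import Groth.Agent.ClProd.Surj
import Mathlib

/-!
Divisor classes on the product of two normal varieties, one of them containing an open subset of affine space.
-/

set_option autoImplicit false
set_option linter.style.haveILetI false
set_option backward.isDefEq.respectTransparency false

universe u

open CategoryTheory CategoryTheory.Limits AlgebraicGeometry TopologicalSpace
open Groth.Agent.EquidimPt (IsFibMax)

noncomputable section

namespace Groth.Agent.ClProd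

variable {k : Type u} [Field k] [IsAlgClosed k]

omit [IsAlgClosed k] in
theorem projData {P X Y : Scheme.{u}} [IsIntegral P] [IsIntegral X] [IsLocallyNoetherian X] [IsIntegral Y]
    {f : X ⟶ Spec (CommRingCat.of k)} {g : Y ⟶ Spec (CommRingCat.of k)} [LocallyOfFiniteType g]
    {a : P ⟶ X} {b : P ⟶ Y} (sq : IsPullback a b f g) [Flat a] [LocallyOfFiniteType a] [GeometricallyIntegral a]
    {δP : P → ℤ} {δX : X → ℤ} (hd : Cyc.DeltaCompat a δP δX) :
    a (genericPoint P) = genericPoint X ∧ ProjData a δP δX (δP (genericPoint P) - δX (genericPoint X)) := by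
  obtain ⟨r, hr⟩ := exists_hasRelDim sq
  obtain ⟨h1, h2, h3⟩ := shift a hr hd
  refine ⟨h1, fun z => fibre_generic a z, fun w => ?_, fun w => ?_⟩
  · rw [← h2]; exact (h3 w).1
  · rw [← h2]; exact (h3 w).2

omit [IsAlgClosed k] in
/-- An open avoiding the closures of the points of a finite set none of which is generic. -/
theorem exists_closed_point {X : Scheme.{u}} [IsIntegral X] (f : X ⟶ Spec (CommRingCat.of k)) [LocallyOfFiniteType f]
    {S : Set X} (hS : S.Finite) (hη : genericPoint X ∉ S) :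
    ∃ x : X, IsClosed ({x} : Set X) ∧ ∀ z ∈ S, ¬ z ⤳ x := by
  haveI : JacobsonSpace X := LocallyOfFiniteType.jacobsonSpace f
  let D : Set X := ⋃ z ∈ S, closure {z}
  have hD : IsClosed D := hS.isClosed_biUnion fun z _ => isClosed_closure
  have hne : (Dᶜ : Set X).Nonempty := ⟨genericPoint X, fun h => by
    simp only [D, Set.mem_iUnion, ← specializes_iff_mem_closure] at h
    obtain ⟨z, hz, hzη⟩ := h
    exact hη (by rwa [(hzη.antisymm (genericPoint_specializes z)).eq] at hz)⟩
  obtain ⟨x, hx, hxc⟩ := nonempty_inter_closedPoints hne hD.isOpen_compl.isLocallyClosed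
  exact ⟨x, hxc, fun z hz hzx => hx (Set.mem_biUnion hz (specializes_iff_mem_closure.1 hzx))⟩

theorem slice_pull {P X Y : Scheme.{u}} [IsIntegral P] [IsLocallyNoetherian P] [IsIntegral X] [CompactSpace X] [IsIntegral Y]
    [IsLocallyNoetherian Y] (hnP : Pi1.IsNormalScheme P) (hnY : Pi1.IsNormalScheme Y)
    {f : X ⟶ Spec (CommRingCat.of k)} [LocallyOfFiniteType f] {g : Y ⟶ Spec (CommRingCat.of k)}
    {a : P ⟶ X} {b : P ⟶ Y} (sq : IsPullback a b f g) {δP : P → ℤ} {δX : X → ℤ} {δY : Y → ℤ}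
    (hP : Cyc.IsDimFun P δP) (hY : Cyc.IsDimFun Y δY) {α : AlgebraicCycle X ℤ}
    (hα : α ∈ Cyc.Zk X δX (δX (genericPoint X) - 1)) {β : AlgebraicCycle Y ℤ}
    (hβ : β ∈ Cyc.Zk Y δY (δY (genericPoint Y) - 1)) {γ : AlgebraicCycle P ℤ}
    (hγ : Cyc.RatEquivZero δP (δP (genericPoint P) - 1) γ)
    (he : ∀ w, γ w = Cyc.pullFun a δP δX (δP (genericPoint P) - δX (genericPoint X)) α w +
      Cyc.pullFun b δP δY (δP (genericPoint P) - δY (genericPoint Y)) β w) :
    Cyc.RatEquivZero δY (δY (genericPoint Y) - 1) β := by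
  obtain ⟨x, hxc, hx⟩ := exists_closed_point f (finite_cycle α) (fun h => h (hα _ (by omega)))
  let pt := pointOfClosedPoint f x hxc
  let s : Y ⟶ P := sq.lift (g ≫ pt) (𝟙 Y) (by rw [Category.assoc, pointOfClosedPoint_comp]; simp)
  refine slice hnP hnY b s (sq.lift_snd _ _ _) hP hY hβ hγ fun w z hwz => ?_
  have hsz : a (s z) = x := by
    rw [← Scheme.Hom.comp_apply, show s ≫ a = g ≫ pt from sq.lift_fst _ _ _, Scheme.Hom.comp_apply]
    exact pointOfClosedPoint_apply f x hxc _
  have hα0 : α (a w) = 0 := by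
    by_contra hne
    have h := hwz.map a.continuous
    rw [hsz] at h
    exact hx _ hne h
  rw [he, show Cyc.pullFun a δP δX (δP (genericPoint P) - δX (genericPoint X)) α w = 0 by
    unfold Cyc.pullFun
    rw [hα0]
    simp, zero_add]

/-- Divisor classes of a product with a rational normal variety. -/
theorem cl_prod {X Y : Scheme.{u}} (f : X ⟶ Spec (CommRingCat.of k)) (g : Y ⟶ Spec (CommRingCat.of k))
    [IsIntegral X] [LocallyOfFiniteType f] [QuasiCompact f] [IsIntegral Y] [LocallyOfFiniteType g] [QuasiCompact g]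
    (hX : Pi1.IsNormalScheme X) (hY : Pi1.IsNormalScheme Y) {n : ℕ} {U : X.Opens}
    {V : (𝔸(ULift.{u} (Fin n); Spec (CommRingCat.of k))).Opens} (e : (U : Scheme.{u}) ≅ (V : Scheme.{u}))
    (hU : (U : Set X).Nonempty)
    (he : e.hom ≫ V.ι ≫ (𝔸(ULift.{u} (Fin n); Spec (CommRingCat.of k)) ↘ Spec (CommRingCat.of k)) = U.ι ≫ f)
    {δX : X → ℤ} {δY : Y → ℤ} {δP : ↥(pullback f g) → ℤ} (hsX : Cyc.IsSetup X δX) (hsY : Cyc.IsSetup Y δY)
    (hsP : Cyc.IsSetup (pullback f g) δP) (hc₁ : Cyc.DeltaCompat (pullback.fst f g) δP δX)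
    (hc₂ : Cyc.DeltaCompat (pullback.snd f g) δP δY) (ηX : X) (ηY : Y) (ηP : ↥(pullback f g))
    (hηX : closure ({ηX} : Set X) = Set.univ) (hηY : closure ({ηY} : Set Y) = Set.univ)
    (hηP : closure ({ηP} : Set ↥(pullback f g)) = Set.univ) :
    (∀ γ ∈ Cyc.Zk (pullback f g) δP (δP ηP - 1), ∃ α ∈ Cyc.Zk X δX (δX ηX - 1),
      ∃ β ∈ Cyc.Zk Y δY (δY ηY - 1), ∃ γ' : AlgebraicCycle (pullback f g) ℤ,
        (∀ z, γ' z = Cyc.pullFun (pullback.fst f g) δP δX (δP ηP - δX ηX) α z +
          Cyc.pullFun (pullback.snd f g) δP δY (δP ηP - δY ηY) β z) ∧ Cyc.RatEquiv δP (δP ηP - 1) γ γ') ∧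
    (∀ α ∈ Cyc.Zk X δX (δX ηX - 1), ∀ β ∈ Cyc.Zk Y δY (δY ηY - 1), ∀ γ' : AlgebraicCycle (pullback f g) ℤ,
      (∀ z, γ' z = Cyc.pullFun (pullback.fst f g) δP δX (δP ηP - δX ηX) α z +
        Cyc.pullFun (pullback.snd f g) δP δY (δP ηP - δY ηY) β z) → Cyc.RatEquivZero δP (δP ηP - 1) γ' →
      Cyc.RatEquivZero δX (δX ηX - 1) α ∧ Cyc.RatEquivZero δY (δY ηY - 1) β) := by
  haveI := hsX.1
  haveI := hsY.1
  haveI := hsP.1
  haveI : GeometricallyIntegral f := by
    haveI : IsIntegral (Over.mk f).left := ‹IsIntegral X›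
    haveI : LocallyOfFiniteType (Over.mk f).hom := ‹LocallyOfFiniteType f›
    exact geometricallyIntegral (Over.mk f)
  haveI : GeometricallyIntegral g := by
    haveI : IsIntegral (Over.mk g).left := ‹IsIntegral Y›
    haveI : LocallyOfFiniteType (Over.mk g).hom := ‹LocallyOfFiniteType g›
    exact geometricallyIntegral (Over.mk g)
  haveI : IsIntegral (pullback f g) := inferInstance
  haveI : CompactSpace X := QuasiCompact.compactSpace_of_compactSpace f
  haveI : CompactSpace Y := QuasiCompact.compactSpace_of_compactSpace g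
  haveI : CompactSpace ↥(pullback f g) := QuasiCompact.compactSpace_of_compactSpace (pullback.fst f g)
  obtain rfl : ηX = genericPoint X := (show IsGenericPoint ηX Set.univ from hηX).eq (genericPoint_spec X)
  obtain rfl : ηY = genericPoint Y := (show IsGenericPoint ηY Set.univ from hηY).eq (genericPoint_spec Y)
  obtain rfl : ηP = genericPoint ↥(pullback f g) :=
    (show IsGenericPoint ηP Set.univ from hηP).eq (genericPoint_spec _)
  have sq := IsPullback.of_hasPullback f g
  obtain ⟨haη, ha⟩ := projData sq hc₁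
  obtain ⟨hbη, hb⟩ := projData sq.flip hc₂
  have hn : Pi1.IsNormalScheme (pullback f g) := isNormal_prod f g hX hY
  constructor
  · intro γ hγ
    let Ak := 𝔸(ULift.{u} (Fin n); Spec (CommRingCat.of k))
    let π : 𝔸(ULift.{u} (Fin n); Y) ⟶ Y := 𝔸(ULift.{u} (Fin n); Y) ↘ Y
    have hpb := AffineSpace.isPullback_map (n := ULift.{u} (Fin n)) g
    have hπ : CycAff.LocAff π n := CycPB.locAff_of_charts fun y =>
      ⟨⊤, trivial, AffineSpace.map _ (⊤ : Y.Opens).ι, AffineSpace.isPullback_map _⟩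
    let i : pullback (U.ι ≫ f) g ⟶ pullback f g := pullback.map _ _ _ _ U.ι (𝟙 _) (𝟙 _) (by simp) (by simp)
    have hm : (U.ι ≫ f) ≫ 𝟙 _ = (e.hom ≫ V.ι) ≫ (Ak ↘ Spec (CommRingCat.of k)) := by
      rw [Category.comp_id, Category.assoc]
      exact he.symm
    let m : pullback (U.ι ≫ f) g ⟶ pullback (Ak ↘ Spec (CommRingCat.of k)) g :=
      pullback.map _ _ _ _ (e.hom ≫ V.ι) (𝟙 _) (𝟙 _) hm (by simp)
    haveI : IsOpenImmersion i :=
      MorphismProperty.pullbackMap (P := @IsOpenImmersion) inferInstance inferInstance (by simp) (by simp)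
    haveI : IsOpenImmersion m :=
      MorphismProperty.pullbackMap (P := @IsOpenImmersion) inferInstance inferInstance (by simp only [Category.assoc]; exact he.symm) (by simp)
    let j : pullback (U.ι ≫ f) g ⟶ 𝔸(ULift.{u} (Fin n); Y) := m ≫ hpb.isoPullback.inv
    haveI : IsOpenImmersion j := inferInstanceAs (IsOpenImmersion (m ≫ hpb.isoPullback.inv))
    have hw : j ≫ π = i ≫ pullback.snd f g := by
      simp only [j, π, Category.assoc, IsPullback.isoPullback_inv_snd, m, i, pullback.lift_snd]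
      exact pullback.lift_snd _ _ _
    have hi : Set.range i = pullback.fst f g ⁻¹' (U : Set X) := by
      rw [Scheme.Pullback.range_map, Scheme.Opens.range_ι]
      simp
    haveI : QuasiCompact π := inferInstance
    haveI : CompactSpace ↥(𝔸(ULift.{u} (Fin n); Y)) := QuasiCompact.compactSpace_of_compactSpace π
    exact surj _ _ hsP hsX hsY ha hb hbη hc₂ hU i hi j π hπ hw haη γ hγ
  · intro α hα β hβ γ hγe hγ
    refine ⟨?_, slice_pull hn hY sq hsP.2.2 hsY.2.2 hα hβ hγ hγe⟩
    exact slice_pull hn hX sq.flip hsP.2.2 hsX.2.2 hβ hα hγ fun w => (hγe w).trans (add_comm _ _)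

end Groth.Agent.ClProd
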