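import Groth.Agent.RefDiv.Order
import Groth.Agent.CycDim.PullDiv
import Groth.Agent.CycDim.Lim
import Mathlib

/-!
Restriction of a principal divisor to a section: if on a normal scheme the divisor of a rational function is,
near a section, the pullback of a divisor of the base, then that divisor is principal.
-/

set_option autoImplicit false
set_option linter.style.haveILetI false
set_option backward.isDefEq.respectTransparency false

universe u

open CategoryTheory AlgebraicGeometry TopologicalSpace
open Groth.Agent.RefStalk (toGen)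
open Groth.Agent.RefDiv (sp sp_injective sp_ne_zero)
open Groth.Agent.EquidimPt (IsFibMax)
open Groth.Agent.CDivNormal (genPrime mem_genPrime)
open Groth.Agent.CycDim (spz)

noncomputable section

namespace Groth.Agent.ClProd

variable {X : Scheme.{u}} [IsIntegral X]

theorem sp_spec {x y : X} (h : x ⤳ y) (a : X.presheaf.stalk y) :
    sp x ((X.presheaf.stalkSpecializes h).hom a) = sp y a :=
  CDivNormal.algebraMap_stalkSpecializes h a

variable [IsLocallyNoetherian X]

theorem ord_sp {δ : X → ℤ} (hδ : Cyc.IsDimFun X δ) {x : X} (hx : Order.coheight x = 1)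
    {a : X.presheaf.stalk x} (ha : a ≠ 0) :
    Scheme.ord (sp x a) x =
      ((Module.length (X.presheaf.stalk x) (X.presheaf.stalk x ⧸ Ideal.span {a})).toNat : ℤ) := by
  have hd := (CycDim.coheight_eq_one_iff hδ x).1 hx
  have hbot : genPrime (toGen x) = ⊥ := by
    refine eq_bot_iff.2 fun b hb => ?_
    by_contra hne
    exact hb (isUnit_iff_ne_zero.2 (sp_ne_zero hne))
  rw [← RefDiv.ordAt_residue hx (sp_ne_zero ha)]
  refine (CycPull.ordAt_eq_length hδ (toGen x) (by omega) (a := a) (by rw [hbot]; exact ha)).trans ?_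
  rw [hbot, bot_sup_eq]

theorem ord_zpow {φ : X.functionField} (h : φ ≠ 0) (x : X) (n : ℤ) :
    Scheme.ord (φ ^ n) x = n * Scheme.ord φ x := by
  have hnat : ∀ m : ℕ, Scheme.ord (φ ^ m) x = m * Scheme.ord φ x := fun m => by
    induction m with
    | zero => rw [pow_zero, RefDiv.ord_one]; simp
    | succ m ih => rw [pow_succ, Scheme.ord_mul (pow_ne_zero m h) h, ih]; push_cast; ring
  cases n with
  | ofNat m => rw [Int.ofNat_eq_natCast, zpow_natCast, hnat]
  | negSucc m => rw [zpow_negSucc, RefDiv.ord_inv (pow_ne_zero _ h), hnat]; push_cast [Int.negSucc_eq]; ring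

theorem ord_prod {ι : Type*} (s : Finset ι) (φ : ι → X.functionField) (h : ∀ i, φ i ≠ 0) (x : X) :
    Scheme.ord (∏ i ∈ s, φ i) x = ∑ i ∈ s, Scheme.ord (φ i) x := by
  classical
  induction s using Finset.induction_on with
  | empty => rw [Finset.prod_empty, Finset.sum_empty, RefDiv.ord_one]
  | insert a s ha ih =>
    rw [Finset.prod_insert ha, Finset.sum_insert ha, Scheme.ord_mul (h a) (Finset.prod_ne_zero_iff.2 fun i _ => h i),
      ih]

theorem exists_residue (g : X.residueField (genericPoint X)) (hg : g ≠ 0) :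
    ∃ φ : X.functionField, φ ≠ 0 ∧ (X.residue (genericPoint X)).hom φ = g := by
  obtain ⟨φ, hφ⟩ := Ideal.Quotient.mk_surjective g
  exact ⟨φ, fun h => hg (by rw [← hφ, h, map_zero]), hφ⟩

/-- A cycle of codimension one rationally equivalent to zero on an integral scheme is a principal divisor. -/
theorem exists_fn {δ : X → ℤ} (hδ : Cyc.IsDimFun X δ) {α : AlgebraicCycle X ℤ}
    (h : Cyc.RatEquivZero δ (δ (genericPoint X) - 1) α) :
    ∃ φ : X.functionField, φ ≠ 0 ∧ ∀ x, Order.coheight x = 1 → α x = Scheme.ord φ x := by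
  obtain ⟨ι, ξ, f, hξ, hf, hloc, hsum⟩ := h
  have hgen : ∀ i, ξ i = genericPoint X := fun i =>
    (CycDim.eq_of_delta_le hδ (genericPoint_specializes (ξ i)) (by rw [hξ i]; omega)).symm
  obtain rfl : ξ = fun _ => genericPoint X := funext hgen
  simp only at hξ
  obtain ⟨U, hU, hxU, hfin⟩ := hloc (genericPoint X)
  haveI : Finite ι := Set.finite_univ_iff.1 (hfin.subset fun i _ => ⟨_, subset_closure rfl, hxU⟩)
  letI := Fintype.ofFinite ι
  choose φ hφ hres using fun i => exists_residue (f i) (hf i)
  refine ⟨∏ i, φ i, Finset.prod_ne_zero_iff.2 fun i _ => hφ i, fun x hx => ?_⟩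
  rw [hsum x, finsum_eq_sum_of_fintype, ord_prod _ _ hφ]
  refine Finset.sum_congr rfl fun i _ => ?_
  have hd := (CycDim.coheight_eq_one_iff hδ x).1 hx
  rw [Cyc.divFun, dif_pos ⟨toGen x, (show δ x + 1 = δ (genericPoint X) by omega)⟩, ← hres, RefDiv.ordAt_residue hx (hφ i)]

/-- A principal divisor is rationally equivalent to zero. -/
theorem ratEquivZero_of_fn {δ : X → ℤ} (hδ : Cyc.IsDimFun X δ) {α : AlgebraicCycle X ℤ}
    (hα : α ∈ Cyc.Zk X δ (δ (genericPoint X) - 1)) {φ : X.functionField} (hφ : φ ≠ 0)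
    (h : ∀ x, Order.coheight x = 1 → α x = Scheme.ord φ x) :
    Cyc.RatEquivZero δ (δ (genericPoint X) - 1) α := by
  refine ⟨PUnit, fun _ => genericPoint X, fun _ => (X.residue (genericPoint X)).hom φ, fun _ => (sub_add_cancel _ _).symm,
    fun _ => RefDiv.residue_ne_zero hφ, fun x => ⟨Set.univ, isOpen_univ, trivial, Set.toFinite _⟩, fun x => ?_⟩
  rw [finsum_eq_sum_of_fintype, Finset.univ_unique, Finset.sum_singleton, Cyc.divFun]
  by_cases hd : δ x + 1 = δ (genericPoint X)
  · have hx : Order.coheight x = 1 := (CycDim.coheight_eq_one_iff hδ x).2 (by omega)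
    rw [dif_pos ⟨toGen x, hd⟩, RefDiv.ordAt_residue hx hφ, h x hx]
  · rw [dif_neg (fun h' => hd h'.2)]
    exact hα x (by omega)

theorem map_unit_zpow {R K : Type*} [CommRing R] [Field K] (F : R →+* K) (v : Rˣ) (n : ℤ) :
    F ((v ^ n : Rˣ) : R) = F (v : R) ^ n := by
  have h := congrArg Units.val (map_zpow (Units.map (F : R →* K)) v n)
  rw [Units.val_zpow_eq_zpow_val] at h
  exact h

/-- Slicing: if the divisor of a rational function is the pullback of `β` near a section, `β` is principal. -/
theorem slice {P Y : Scheme.{u}} [IsIntegral P] [IsLocallyNoetherian P] [IsIntegral Y] [IsLocallyNoetherian Y]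
    (hnP : Pi1.IsNormalScheme P) (hnY : Pi1.IsNormalScheme Y) (p : P ⟶ Y) (s : Y ⟶ P) (hs : s ≫ p = 𝟙 Y)
    {δP : P → ℤ} {δY : Y → ℤ} (hP : Cyc.IsDimFun P δP) (hY : Cyc.IsDimFun Y δY)
    {β : AlgebraicCycle Y ℤ} (hβ : β ∈ Cyc.Zk Y δY (δY (genericPoint Y) - 1))
    {γ : AlgebraicCycle P ℤ} (hγ : Cyc.RatEquivZero δP (δP (genericPoint P) - 1) γ)
    (hloc : ∀ w z, w ⤳ s z → γ w = Cyc.pullFun p δP δY (δP (genericPoint P) - δY (genericPoint Y)) β w) :
    Cyc.RatEquivZero δY (δY (genericPoint Y) - 1) β := by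
  obtain ⟨f, hf, hord⟩ := exists_fn hP hγ
  have hps : ∀ z, p (s z) = z := fun z => by
    rw [← Scheme.Hom.comp_apply, hs]
    rfl
  have hgen : p (genericPoint P) = genericPoint Y := by
    refine (Specializes.antisymm ?_ (genericPoint_specializes _)).eq
    have h := (genericPoint_specializes (s (genericPoint Y))).map p.continuous
    rwa [hps] at h
  -- the function is a unit along the generic point of the section
  have hβη : β (genericPoint Y) = 0 := hβ _ (by omega)
  have hunit : ∀ w, w ⤳ s (genericPoint Y) → p w = genericPoint Y := fun w hw => by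
    refine (Specializes.antisymm ?_ (genericPoint_specializes _)).eq
    have h := hw.map p.continuous
    rwa [hps] at h
  have hz0 : ∀ w, Order.coheight w = 1 → w ⤳ s (genericPoint Y) → Scheme.ord f w = 0 := fun w hw hsp => by
    rw [← hord w hw, hloc w _ hsp]
    unfold Cyc.pullFun
    split
    · rw [show β (p w) = 0 from (congrArg (⇑β) (hunit w hsp)).trans hβη, zero_mul]
    · rfl
  obtain ⟨u₀, hu₀⟩ := CDivNormal.mem_stalkUnits_of_codim_one hnP (Units.mk0 f hf) (s (genericPoint Y))
    fun w hsp hw => hz0 w hw hsp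
  have hu₀' : sp (s (genericPoint Y)) (u₀ : P.presheaf.stalk _) = f := congrArg Units.val hu₀
  let g : Y.functionField := (s.stalkMap (genericPoint Y)).hom (u₀ : P.presheaf.stalk _)
  have hg : g ≠ 0 := (u₀.isUnit.map (s.stalkMap (genericPoint Y)).hom).ne_zero
  refine ratEquivZero_of_fn hY hβ hg fun z hz => ?_
  haveI := CDivNormal.isDVR hnY (p (s z)) (by rw [hps]; exact hz)
  obtain ⟨t, ht⟩ := IsDiscreteValuationRing.exists_irreducible (Y.presheaf.stalk (p (s z)))
  let T : P.presheaf.stalk (s z) := (p.stalkMap (s z)).hom t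
  let b : Y.presheaf.stalk z := (s.stalkMap z).hom T
  have hzc : Order.coheight (p (s z)) = 1 := by rw [hps]; exact hz
  -- the uniformizer pulled back
  have htm : IsLocalRing.maximalIdeal (Y.presheaf.stalk (p (s z))) = Ideal.span {t} :=
    ht.maximalIdeal_eq
  have hT : ∀ w (h : w ⤳ s z),
      (P.presheaf.stalkSpecializes h).hom T =
        (p.stalkMap w).hom ((Y.presheaf.stalkSpecializes (h.map p.continuous)).hom t) := fun w h =>
    (Scheme.Hom.stalkSpecializes_stalkMap_apply p w (s z) h t).symm
  have hT0 : T ≠ 0 := fun h0 => by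
    have h1 := hT _ (toGen (s z))
    rw [h0, map_zero] at h1
    have h2 : IsUnit ((Y.presheaf.stalkSpecializes ((toGen (s z)).map p.continuous)).hom t) := by
      by_contra hnu
      have h3 : sp (p (s z)) t = 0 := by
        by_contra hne
        refine hnu ?_
        have h4 := isUnit_iff_ne_zero.2 hne
        have e : p (genericPoint P) ⤳ genericPoint Y := by rw [hgen]
        have h5 := h4.map (Y.presheaf.stalkSpecializes e).hom
        rwa [← CommRingCat.comp_apply, TopCat.Presheaf.stalkSpecializes_comp] at h5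
      exact ht.ne_zero (sp_injective _ (h3.trans (map_zero _).symm))
    exact not_isUnit_zero (h1.symm ▸ h2.map (p.stalkMap _).hom)
  have key : ∀ (q : Y ⟶ Y), q = 𝟙 Y → ∀ (v : Y) (t' : Y.presheaf.stalk (q v)),
      sp v ((q.stalkMap v).hom t') = sp (q v) t' := by
    rintro q rfl v t'
    rw [Scheme.Hom.stalkMap_id]
    rfl
  have hbe : sp z b = sp (p (s z)) t := by
    refine Eq.trans ?_ (key (s ≫ p) hs z t)
    rw [Scheme.Hom.stalkMap_comp]
    rfl
  have hordb : Scheme.ord (sp z b) z = 1 := by
    rw [hbe]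
    haveI : Ring.KrullDimLE 1 (Y.presheaf.stalk (p (s z))) := krullDimLE_of_coheight_le hzc.le
    have h0 := (Scheme.ord_eq_iff hzc (sp_ne_zero ht.ne_zero)).2 (Ring.ordFrac_irreducible ht)
    exact (congrArg (Scheme.ord (sp (p (s z)) t)) (hps z)).symm.trans h0
  let a := β z
  let φ := f * (sp (s z) T) ^ (-a)
  have hφ : φ ≠ 0 := mul_ne_zero hf (zpow_ne_zero _ (sp_ne_zero hT0))
  have hz1 : ∀ w, w ⤳ s z → Order.coheight w = 1 → Scheme.ord φ w = 0 := fun w hsp hw => by
    have hd := (CycDim.coheight_eq_one_iff hP w).1 hw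
    have hdz := (CycDim.coheight_eq_one_iff hY z).1 hz
    have hpw : p w ⤳ z := by
      have h := hsp.map p.continuous
      rwa [hps] at h
    rw [Scheme.ord_mul hf (zpow_ne_zero _ (sp_ne_zero hT0)), ord_zpow (sp_ne_zero hT0), ← hord w hw,
      hloc w z hsp, ← sp_spec hsp]
    rw [hT w hsp]
    by_cases he : p w = z
    · have hT' : (p.stalkMap w).hom ((Y.presheaf.stalkSpecializes (hsp.map p.continuous)).hom t) ≠ 0 := by
        rw [← hT w hsp]
        exact fun h0 => hT0 (sp_injective _ (by rw [← sp_spec hsp, h0, map_zero, map_zero]))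
      rw [ord_sp hP hw hT']
      have hm : IsLocalRing.maximalIdeal (Y.presheaf.stalk (p w)) =
          Ideal.span {(Y.presheaf.stalkSpecializes (hsp.map p.continuous)).hom t} := by
        have : ∀ (v : Y) (h : v ⤳ p (s z)), v = p (s z) →
            IsLocalRing.maximalIdeal (Y.presheaf.stalk v) = Ideal.span {(Y.presheaf.stalkSpecializes h).hom t} := by
          rintro v h rfl
          rw [TopCat.Presheaf.stalkSpecializes_refl]
          exact htm
        exact this _ _ (by rw [he, hps])
      unfold Cyc.pullFun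
      rw [if_pos (by rw [he]; omega), show β (p w) = a from congrArg (⇑β) he, hm, Ideal.map_span, Set.image_singleton]
      ring
    · have hη : p w = genericPoint Y := by
        have hne : p w ≠ z := he
        have h1 := (hY _ _ hpw hne).1
        exact (CycDim.eq_of_delta_le hY (genericPoint_specializes _) (by omega)).symm
      have hu : IsUnit ((Y.presheaf.stalkSpecializes (hsp.map p.continuous)).hom t) := by
        have h4 := isUnit_iff_ne_zero.2 (sp_ne_zero (x := p (s z)) ht.ne_zero)
        have h5 := h4.map (Y.presheaf.stalkSpecializes (specializes_of_eq hη : p w ⤳ genericPoint Y)).hom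
        rwa [← CommRingCat.comp_apply, TopCat.Presheaf.stalkSpecializes_comp] at h5
      rw [RefDiv.ord_sp_isUnit hw (hu.map (p.stalkMap w).hom), mul_zero, add_zero]
      unfold Cyc.pullFun
      split
      · rw [show β (p w) = 0 from (congrArg (⇑β) hη).trans hβη, zero_mul]
      · rfl
  obtain ⟨u₁, hu₁⟩ := CDivNormal.mem_stalkUnits_of_codim_one hnP (Units.mk0 φ hφ) (s z) hz1
  have hu₁' : sp (s z) (u₁ : P.presheaf.stalk _) = φ := congrArg Units.val hu₁
  -- transfer along the section
  have hsη : s (genericPoint Y) ⤳ s z := (toGen z).map s.continuous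
  let S : P.presheaf.stalk (s z) →+* Y.functionField :=
    (sp z).comp (s.stalkMap z).hom
  have hS : ∀ x, S x = (s.stalkMap (genericPoint Y)).hom ((P.presheaf.stalkSpecializes hsη).hom x) := fun x =>
    (Scheme.Hom.stalkSpecializes_stalkMap_apply s (genericPoint Y) z (toGen z) x).symm
  let K : P.presheaf.stalk (s (genericPoint Y)) →+* P.functionField := sp _
  have huT : IsUnit ((P.presheaf.stalkSpecializes hsη).hom T) := by
    rw [hT _ hsη]
    refine IsUnit.map (p.stalkMap _).hom ?_
    have h4 := isUnit_iff_ne_zero.2 (sp_ne_zero (x := p (s z)) ht.ne_zero)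
    have h5 := h4.map (Y.presheaf.stalkSpecializes
      (specializes_of_eq (hps (genericPoint Y)) : p (s (genericPoint Y)) ⤳ genericPoint Y)).hom
    rwa [← CommRingCat.comp_apply, TopCat.Presheaf.stalkSpecializes_comp] at h5
  have e : (P.presheaf.stalkSpecializes hsη).hom (u₁ : P.presheaf.stalk _) =
      ((u₀ * huT.unit ^ (-a) : (P.presheaf.stalk (s (genericPoint Y)))ˣ) : P.presheaf.stalk _) := by
    apply sp_injective
    rw [sp_spec, hu₁', Units.val_mul, map_mul, hu₀']
    refine congrArg (f * ·) ?_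
    rw [map_unit_zpow, IsUnit.unit_spec, sp_spec]
  have e2 : S (u₁ : P.presheaf.stalk _) = g * (sp z b) ^ (-a) := by
    rw [hS, e, Units.val_mul, map_mul]
    refine congrArg (g * ·) ?_
    refine (map_unit_zpow (K := Y.functionField) (s.stalkMap (genericPoint Y)).hom huT.unit (-a)).trans ?_
    rw [IsUnit.unit_spec, ← hS]
    rfl
  have h1 : Scheme.ord (S (u₁ : P.presheaf.stalk _)) z = 0 :=
    RefDiv.ord_sp_isUnit hz (u₁.isUnit.map (s.stalkMap z).hom)
  have hb0 : sp z b ≠ 0 := fun h0 => by rw [h0] at hordb; simp [Scheme.ord] at hordb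
  rw [e2, Scheme.ord_mul hg (zpow_ne_zero _ hb0), ord_zpow hb0, hordb] at h1
  omega

end Groth.Agent.ClProd
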